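import Groth.Prelude.Def_FlatMod2
import Mathlib.Algebra.Category.ModuleCat.Sheaf.ChangeOfRings
import Mathlib.Algebra.Category.ModuleCat.Presheaf.Free
import Mathlib.Algebra.Category.ModuleCat.Presheaf.EpiMono
import Mathlib.Algebra.Category.ModuleCat.Stalk
import Mathlib.RingTheory.Flat.Basic
import Mathlib.Topology.Sheaves.Sheafify

/-! Flat covers of modules over a flat sheaf of algebras. -/

set_option autoImplicit false
set_option backward.isDefEq.respectTransparency false
set_option backward.isDefEq.respectTransparency.types false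
set_option linter.style.haveILetI false
universe u

open CategoryTheory CategoryTheory.Limits AlgebraicGeometry TopologicalSpace Opposite

noncomputable section

namespace Groth.Agent.FlatCov13

variable {X : Scheme.{u}} {A : Sheaf (Opens.grothendieckTopology X) RingCat.{u}}
  (φ : X.ringCatSheaf ⟶ A) (M : SheafOfModules.{u} A)

/-- the underlying presheaf of sets -/
abbrev G0 : (Opens X)ᵒᵖ ⥤ Type u := M.val.presheaf ⋙ forget AddCommGrpCat.{u}

/-- the free presheaf of modules on the sections -/
abbrev P0 : PresheafOfModules.{u} A.obj := (PresheafOfModules.free A.obj).obj (G0 M)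

/-- a generator with coefficient -/
def sgl {U : Opens X} (s : M.val.obj (op U)) (b : A.obj.obj (op U)) : (P0 M).obj (op U) :=
  b • ModuleCat.freeMk s

theorem sgl_eq {U : Opens X} (s : M.val.obj (op U)) (b : A.obj.obj (op U)) :
    sgl M s b = (Finsupp.single s b : (G0 M).obj (op U) →₀ A.obj.obj (op U)) := by
  change b • (Finsupp.single s 1 : (G0 M).obj (op U) →₀ A.obj.obj (op U)) = _
  rw [Finsupp.smul_single, smul_eq_mul, mul_one]

theorem sgl_res {U V : Opens X} (i : V ⟶ U) (s : M.val.obj (op U)) (b : A.obj.obj (op U)) :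
    (P0 M).presheaf.map i.op (sgl M s b) = sgl M (M.val.presheaf.map i.op s) (A.obj.map i.op b) := by
  refine ((P0 M).map_smul i.op b (ModuleCat.freeMk s)).trans ?_
  exact congrArg (A.obj.map i.op b • ·) (ModuleCat.freeDesc_apply _ _)

theorem sgl_smul {U : Opens X} (s : M.val.obj (op U)) (c b : A.obj.obj (op U)) :
    c • sgl M s b = sgl M s (c * b) := (mul_smul c b _).symm

/-- sheafification of the free presheaf -/
abbrev F0 : SheafOfModules.{u} A := (PresheafOfModules.sheafification.{u} (𝟙 A.obj)).obj (P0 M)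

/-- sheafification unit -/
abbrev uu : (P0 M).presheaf ⟶ (F0 M).val.presheaf :=
  (PresheafOfModules.toPresheaf _).map ((PresheafOfModules.sheafificationAdjunction.{u} (𝟙 A.obj)).unit.app (P0 M))

theorem bijective_uu (x : X) : Function.Bijective ((TopCat.Presheaf.stalkFunctor Ab.{u} x).map (uu M)) := by
  rw [show uu M = CategoryTheory.toSheafify (Opens.grothendieckTopology X) (P0 M).presheaf from rfl]
  haveI := TopCat.Presheaf.stalkFunctor_map_unit_toSheafify_isIso (X := X.carrier) x AddCommGrpCat.{u} (P0 M).presheaf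
  exact ConcreteCategory.bijective_of_isIso _

/-- the cover -/
def cov : F0 M ⟶ M :=
  (PresheafOfModules.sheafification.{u} (𝟙 A.obj)).map
      (PresheafOfModules.freeObjDesc (𝟙 (G0 M))) ≫
    (PresheafOfModules.sheafificationAdjunction.{u} (𝟙 A.obj)).counit.app M

theorem epi_cov : Epi (cov M) := by
  have : Epi (PresheafOfModules.freeObjDesc (R := A.obj) (G := M.val) (𝟙 (G0 M))) :=
    PresheafOfModules.epi_of_surjective fun U x => ⟨ModuleCat.freeMk x, ModuleCat.freeDesc_apply _ _⟩
  haveI : (PresheafOfModules.sheafification.{u} (𝟙 A.obj)).IsLeftAdjoint :=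
    (PresheafOfModules.sheafificationAdjunction.{u} (𝟙 A.obj)).isLeftAdjoint
  have h1 : Epi ((PresheafOfModules.sheafification.{u} (𝟙 A.obj)).map
      (PresheafOfModules.freeObjDesc (R := A.obj) (G := M.val) (𝟙 (G0 M)))) := Functor.map_epi _ _
  exact @epi_comp _ _ _ _ _ _ h1 _ inferInstance

/-- stalk of the module of sections -/
abbrev Gx (x : X) : Type u := ↑(TopCat.Presheaf.stalk (C := Ab.{u}) (X := X.carrier) M.val.presheaf x)

/-- the algebra as a module -/
abbrev N0 : X.Modules := (SheafOfModules.restrictScalars φ).obj (SheafOfModules.unit A)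

/-- the cover as a module -/
abbrev FX : X.Modules := (SheafOfModules.restrictScalars φ).obj (F0 M)

/-- germ at `x` of a generator times a section, in the stalk of the free presheaf -/
def gen (x : X) (U : Opens X) (hU : x ∈ U) (s : M.val.obj (op U)) :
    (N0 φ).presheaf.stalk x ⟶ TopCat.Presheaf.stalk (C := Ab.{u}) (X := X.carrier) (P0 M).presheaf x :=
  colimit.desc ((OpenNhds.inclusion x).op ⋙ (N0 φ).presheaf)
    { pt := TopCat.Presheaf.stalk (C := Ab.{u}) (X := X.carrier) (P0 M).presheaf x
      ι :=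
      { app := fun V => AddCommGrpCat.ofHom
          (AddMonoidHom.mk' (fun b : A.obj.obj (op V.unop.1) =>
            TopCat.Presheaf.germ (X := X.carrier) (P0 M).presheaf (U ⊓ V.unop.1) x ⟨hU, V.unop.2⟩
              (sgl M (M.val.presheaf.map (homOfLE (inf_le_left : U ⊓ V.unop.1 ≤ U)).op s)
                (A.obj.map (homOfLE (inf_le_right : U ⊓ V.unop.1 ≤ V.unop.1)).op b)))
            fun a b => Eq.trans (congrArg _ ((congrArg (fun c => c • ModuleCat.freeMk _)
              (map_add (A.obj.map _).hom a b)).trans (add_smul _ _ _))) (map_add _ _ _))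
        naturality := fun V W f => by
          ext (b : A.obj.obj (op V.unop.1))
          show TopCat.Presheaf.germ (X := X.carrier) (P0 M).presheaf (U ⊓ W.unop.1) x ⟨hU, W.unop.2⟩
              (sgl M _ (A.obj.map _ (A.obj.map ((OpenNhds.inclusion x).map f.unop).op b))) = _
          refine Eq.trans ?_ (TopCat.Presheaf.germ_res_apply (X := X.carrier) (P0 M).presheaf
            (homOfLE (inf_le_inf_left U (leOfHom ((OpenNhds.inclusion x).map f.unop))) :
              U ⊓ W.unop.1 ⟶ U ⊓ V.unop.1) x ⟨hU, W.unop.2⟩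
            (sgl M (M.val.presheaf.map (homOfLE (inf_le_left : U ⊓ V.unop.1 ≤ U)).op s)
              (A.obj.map (homOfLE (inf_le_right : U ⊓ V.unop.1 ≤ V.unop.1)).op b)))
          refine congrArg _ (Eq.trans ?_ (sgl_res M _ _ _).symm)
          rw [← ConcreteCategory.comp_apply, ← ConcreteCategory.comp_apply (M.val.presheaf.map _),
            ← ConcreteCategory.comp_apply (A.obj.map (homOfLE (inf_le_right : U ⊓ V.unop.1 ≤ V.unop.1)).op),
            ← Functor.map_comp, ← Functor.map_comp, ← Functor.map_comp]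
          rfl } }

theorem gen_germ (x : X) (U : Opens X) (hU : x ∈ U) (s : M.val.obj (op U)) (V : Opens X) (hV : x ∈ V)
    (b : A.obj.obj (op V)) :
    gen φ M x U hU s ((N0 φ).presheaf.germ V x hV b) =
      TopCat.Presheaf.germ (X := X.carrier) (P0 M).presheaf (U ⊓ V) x ⟨hU, hV⟩
        (sgl M (M.val.presheaf.map (homOfLE (inf_le_left : U ⊓ V ≤ U)).op s)
          (A.obj.map (homOfLE (inf_le_right : U ⊓ V ≤ V)).op b)) :=
  ConcreteCategory.congr_hom
    (colimit.ι_desc (F := (OpenNhds.inclusion x).op ⋙ (N0 φ).presheaf) _ (op (⟨V, hV⟩ : OpenNhds x))) b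

theorem gen_eq {x : X} {U W : Opens X} (hU : x ∈ U) (hW : x ∈ W) (s : M.val.obj (op U)) (t : M.val.obj (op W))
    (b : A.obj.obj (op W))
    (h : TopCat.Presheaf.germ (X := X.carrier) M.val.presheaf U x hU s =
      TopCat.Presheaf.germ (X := X.carrier) M.val.presheaf W x hW t) :
    gen φ M x U hU s ((N0 φ).presheaf.germ W x hW b) =
      TopCat.Presheaf.germ (X := X.carrier) (P0 M).presheaf W x hW (sgl M t b) := by
  obtain ⟨Z, hZ, iU, iW, e⟩ := TopCat.Presheaf.germ_eq (X := X.carrier) M.val.presheaf x hU hW s t h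
  rw [gen_germ, ← TopCat.Presheaf.germ_res_apply (X := X.carrier) (P0 M).presheaf
    (homOfLE (le_inf (leOfHom iU) (leOfHom iW)) : Z ⟶ U ⊓ W) x hZ,
    ← TopCat.Presheaf.germ_res_apply (X := X.carrier) (P0 M).presheaf iW x hZ]
  refine congrArg _ ((sgl_res M _ _ _).trans (Eq.trans ?_ (sgl_res M _ _ _).symm))
  rw [← ConcreteCategory.comp_apply, ← ConcreteCategory.comp_apply (A.obj.map _), ← Functor.map_comp,
    ← Functor.map_comp, ← e]
  rfl

/-- a representative -/
theorem exists_rep (x : X) (g : Gx M x) : ∃ p : Σ' (U : Opens X) (_ : x ∈ U), M.val.obj (op U),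
    TopCat.Presheaf.germ (X := X.carrier) M.val.presheaf p.1 x p.2.1 p.2.2 = g := by
  obtain ⟨U, hU, s, hs⟩ := TopCat.Presheaf.germ_exist (X := X.carrier) M.val.presheaf g
  exact ⟨⟨U, hU, s⟩, hs⟩

/-- the comparison map -/
def psi (x : X) : (Gx M x →₀ (N0 φ).presheaf.stalk x) →+
    ↑(TopCat.Presheaf.stalk (C := Ab.{u}) (X := X.carrier) (P0 M).presheaf x) :=
  Finsupp.liftAddHom fun g => (gen φ M x (exists_rep M x g).choose.1 (exists_rep M x g).choose.2.1
    (exists_rep M x g).choose.2.2).hom

theorem psi_germ (x : X) (W : Opens X) (hW : x ∈ W) (t : M.val.obj (op W)) (b : A.obj.obj (op W)) :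
    psi φ M x (Finsupp.single (TopCat.Presheaf.germ (X := X.carrier) M.val.presheaf W x hW t)
        ((N0 φ).presheaf.germ W x hW b)) =
      TopCat.Presheaf.germ (X := X.carrier) (P0 M).presheaf W x hW (sgl M t b) := by
  rw [psi, Finsupp.liftAddHom_apply_single]
  exact gen_eq φ M _ hW _ t b (exists_rep M x _).choose_spec

theorem exists_common (x : X) (g : Gx M x) (a : (N0 φ).presheaf.stalk x) :
    ∃ (W : Opens X) (hW : x ∈ W) (t : M.val.obj (op W)) (b : A.obj.obj (op W)),
      TopCat.Presheaf.germ (X := X.carrier) M.val.presheaf W x hW t = g ∧ (N0 φ).presheaf.germ W x hW b = a := by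
  obtain ⟨U, hU, s, rfl⟩ := TopCat.Presheaf.germ_exist (X := X.carrier) M.val.presheaf g
  obtain ⟨V, hV, c, rfl⟩ := TopCat.Presheaf.germ_exist (X := X.carrier) (N0 φ).presheaf a
  exact ⟨U ⊓ V, ⟨hU, hV⟩, _, _, TopCat.Presheaf.germ_res_apply (X := X.carrier) M.val.presheaf
    (homOfLE inf_le_left : U ⊓ V ⟶ U) x ⟨hU, hV⟩ s, TopCat.Presheaf.germ_res_apply (X := X.carrier) (N0 φ).presheaf
    (homOfLE inf_le_right : U ⊓ V ⟶ V) x ⟨hU, hV⟩ c⟩

/-- the inverse on sections -/
def phiU (x : X) (U : Opens X) (hU : x ∈ U) :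
    ((G0 M).obj (op U) →₀ A.obj.obj (op U)) →+ (Gx M x →₀ (N0 φ).presheaf.stalk x) :=
  (Finsupp.mapRange.addMonoidHom ((N0 φ).presheaf.germ U x hU).hom).comp
    (Finsupp.mapDomain.addMonoidHom fun s => TopCat.Presheaf.germ (X := X.carrier) M.val.presheaf U x hU s)

theorem phiU_single (x : X) (U : Opens X) (hU : x ∈ U) (s : M.val.obj (op U)) (b : A.obj.obj (op U)) :
    phiU φ M x U hU (sgl M s b) = Finsupp.single (TopCat.Presheaf.germ (X := X.carrier) M.val.presheaf U x hU s)
        ((N0 φ).presheaf.germ U x hU b) := by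
  rw [sgl_eq]
  refine (congrArg (Finsupp.mapRange.addMonoidHom ((N0 φ).presheaf.germ U x hU).hom) Finsupp.mapDomain_single).trans ?_
  exact Finsupp.mapRange_single (hf := map_zero _)

/-- the inverse -/
def phi (x : X) : TopCat.Presheaf.stalk (C := Ab.{u}) (X := X.carrier) (P0 M).presheaf x ⟶
    AddCommGrpCat.of (Gx M x →₀ (N0 φ).presheaf.stalk x) :=
  colimit.desc ((OpenNhds.inclusion x).op ⋙ (P0 M).presheaf)
    { pt := AddCommGrpCat.of (Gx M x →₀ (N0 φ).presheaf.stalk x)
      ι :=
      { app := fun V => AddCommGrpCat.ofHom (phiU φ M x V.unop.1 V.unop.2)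
        naturality := fun V W f => by
          apply AddCommGrpCat.hom_ext
          refine Finsupp.addHom_ext fun s b => ?_
          show phiU φ M x W.unop.1 W.unop.2 ((P0 M).presheaf.map ((OpenNhds.inclusion x).map f.unop).op
              (Finsupp.single s b : (G0 M).obj (op V.unop.1) →₀ A.obj.obj (op V.unop.1))) =
            phiU φ M x V.unop.1 V.unop.2 (Finsupp.single s b)
          rw [← sgl_eq, sgl_res, phiU_single, phiU_single]
          congr 1
          · exact TopCat.Presheaf.germ_res_apply (X := X.carrier) M.val.presheaf _ x _ s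
          · exact TopCat.Presheaf.germ_res_apply (X := X.carrier) (N0 φ).presheaf _ x _ b } }

theorem phi_germ (x : X) (U : Opens X) (hU : x ∈ U) (p : (G0 M).obj (op U) →₀ A.obj.obj (op U)) :
    phi φ M x (TopCat.Presheaf.germ (X := X.carrier) (P0 M).presheaf U x hU p) = phiU φ M x U hU p :=
  ConcreteCategory.congr_hom
    (colimit.ι_desc (F := (OpenNhds.inclusion x).op ⋙ (P0 M).presheaf) _ (op (⟨U, hU⟩ : OpenNhds x))) p

theorem bijective_psi (x : X) : Function.Bijective (psi φ M x) := by
  refine ⟨Function.LeftInverse.injective (g := phi φ M x) fun q => ?_, fun p => ⟨phi φ M x p, ?_⟩⟩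
  · induction q using Finsupp.induction_linear with
    | zero => simp
    | add p q hp hq => rw [map_add, map_add, hp, hq]
    | single g a =>
      obtain ⟨W, hW, t, b, rfl, rfl⟩ := exists_common φ M x g a
      rw [psi_germ]
      exact (phi_germ φ M x W hW _).trans (phiU_single φ M x W hW t b)
  · obtain ⟨U, hU, (p : (G0 M).obj (op U) →₀ A.obj.obj (op U)), rfl⟩ :=
      TopCat.Presheaf.germ_exist (X := X.carrier) (P0 M).presheaf p
    induction p using Finsupp.induction_linear with
    | zero =>
      rw [show (0 : (G0 M).obj (op U) →₀ A.obj.obj (op U)) = (0 : (P0 M).presheaf.obj (op U)) from rfl]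
      simp
    | add p q hp hq =>
      have e : ∀ a b, TopCat.Presheaf.germ (X := X.carrier) (P0 M).presheaf U x hU (a + b) = _ :=
        map_add (TopCat.Presheaf.germ (X := X.carrier) (P0 M).presheaf U x hU).hom
      refine Eq.trans (congrArg (fun z => psi φ M x (phi φ M x z)) (e _ _)) (Eq.trans ?_ (e _ _).symm)
      rw [map_add, map_add, hp, hq]
    | single s b =>
      rw [← sgl_eq, show phi φ M x (TopCat.Presheaf.germ (X := X.carrier) (P0 M).presheaf U x hU (sgl M s b)) =
        Finsupp.single _ _ from (phi_germ φ M x U hU _).trans (phiU_single φ M x U hU s b)]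
      exact psi_germ φ M x U hU s b

/-- the stalk of the cover -/
def theta (x : X) : (Gx M x →₀ (N0 φ).presheaf.stalk x) →ₗ[X.presheaf.stalk x] (FX φ M).presheaf.stalk x where
  toFun q := (TopCat.Presheaf.stalkFunctor Ab.{u} x).map (uu M) (psi φ M x q)
  map_add' := fun p q => by rw [map_add, map_add]
  map_smul' r q := by
    rw [RingHom.id_apply]
    induction q using Finsupp.induction_linear with
    | zero => rw [smul_zero, map_zero, map_zero, smul_zero]
    | add p q hp hq => rw [smul_add, map_add, map_add, map_add, map_add, hp, hq]; exact (smul_add r _ _).symm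
    | single g a =>
      obtain ⟨W, hW, t, b, rfl, rfl⟩ := exists_common φ M x g a
      obtain ⟨U, hU, c, rfl⟩ := TopCat.Presheaf.germ_exist (X := X.carrier) X.presheaf r
      rw [← TopCat.Presheaf.germ_res_apply (X := X.carrier) X.presheaf (homOfLE inf_le_left : U ⊓ W ⟶ U) x ⟨hU, hW⟩ c,
        ← TopCat.Presheaf.germ_res_apply (X := X.carrier) (N0 φ).presheaf (homOfLE inf_le_right : U ⊓ W ⟶ W) x
          ⟨hU, hW⟩ b,
        ← TopCat.Presheaf.germ_res_apply (X := X.carrier) M.val.presheaf (homOfLE inf_le_right : U ⊓ W ⟶ W) x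
          ⟨hU, hW⟩ t, Finsupp.smul_single]
      erw [← PresheafOfModules.germ_smul (N0 φ).val x (U ⊓ W) ⟨hU, hW⟩]
      erw [psi_germ, psi_germ, TopCat.Presheaf.stalkFunctor_map_germ_apply,
        TopCat.Presheaf.stalkFunctor_map_germ_apply,
        ← PresheafOfModules.germ_smul (FX φ M).val x (U ⊓ W) ⟨hU, hW⟩]
      refine congrArg _ ?_
      refine Eq.trans ?_ ((((PresheafOfModules.sheafificationAdjunction.{u} (𝟙 A.obj)).unit.app (P0 M)).app
        (op (U ⊓ W))).hom.map_smul _ _)
      exact congrArg _ (sgl_smul M _ _ _).symm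

theorem isFlat_FX (hA : FlatMod.IsFlat (N0 φ)) : FlatMod.IsFlat (FX φ M) := fun x => by
  haveI : Module.Flat (X.presheaf.stalk x) ((N0 φ).presheaf.stalk x) := hA x
  haveI : Module.Flat (X.presheaf.stalk x) (Gx M x →₀ (N0 φ).presheaf.stalk x) := by
    classical
    exact Module.Flat.of_linearEquiv (finsuppLequivDFinsupp (X.presheaf.stalk x))
  exact Module.Flat.of_linearEquiv (LinearEquiv.ofBijective (theta φ M x)
    ((bijective_uu M x).comp (bijective_psi φ M x))).symm

end Groth.Agent.FlatCov13
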